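import Mathlib
import Cfsg.Agent.SymRec.CoxLift

/-!
# S3350: the generic assembly step

Two copies `K`, `J` of `Sym(n+3)` inside a group `G`, labelled so that the `K`-points are
`0,…,n+2`, the `J`-points are `2,…,n+4`, the labellings agree on the common adjacent
transpositions, `(0 1)_K` centralises `J`, `(n+3 n+4)_J` centralises `K` and
`(1 2)_K` commutes with `(n+2 n+3)_J`, generate a copy of `Sym(n+5)`.
-/

set_option autoImplicit false

namespace Cfsg.Agent.SymRec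

open Equiv

theorem sr_hom_swap_sq {G : Type*} [Group G] {α : Type*} [DecidableEq α]
    (φ : Perm α →* G) (a b : α) : φ (swap a b) * φ (swap a b) = 1 := by
  rw [← map_mul, swap_mul_self, map_one]

theorem sr_hom_swap_braid {G : Type*} [Group G] {α : Type*} [Fintype α] [DecidableEq α]
    (φ : Perm α →* G) {a b c : α} (hab : a ≠ b) (hac : a ≠ c) (hbc : b ≠ c) :
    (φ (swap a b) * φ (swap b c)) ^ 3 = 1 := by
  have h : (swap a b * swap b c).IsThreeCycle := by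
    rw [swap_comm a b]; exact Perm.isThreeCycle_swap_mul_swap_same hab.symm hbc hac
  rw [← map_mul, ← map_pow, ← h.orderOf, pow_orderOf_eq_one, map_one]

theorem sr_hom_swap_comm {G : Type*} [Group G] {α : Type*} [DecidableEq α]
    (φ : Perm α →* G) {a b c d : α} (hab : a ≠ b) (hcd : c ≠ d) (hac : a ≠ c) (had : a ≠ d)
    (hbc : b ≠ c) (hbd : b ≠ d) :
    φ (swap a b) * φ (swap c d) = φ (swap c d) * φ (swap a b) := by
  have h : Perm.Disjoint (swap a b) (swap c d) :=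
    Perm.disjoint_swap_swap (by simp [hab, hcd, hac, had, hbc, hbd])
  rw [← map_mul, ← map_mul, h.commute.eq]

/-- braid relation for swaps of `Fin N` given by natural numbers -/
theorem sr_braid_nat {G : Type*} [Group G] {N : ℕ} (φ : Perm (Fin N) →* G)
    (a b b' c : ℕ) (ha : a < N) (hb : b < N) (hb' : b' < N) (hc : c < N) (hbb : b = b')
    (hab : a ≠ b) (hac : a ≠ c) (hbc : b ≠ c) :
    (φ (swap ⟨a, ha⟩ ⟨b, hb⟩) * φ (swap ⟨b', hb'⟩ ⟨c, hc⟩)) ^ 3 = 1 := by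
  subst hbb
  exact sr_hom_swap_braid φ (fun h => hab (Fin.mk.inj_iff.1 h)) (fun h => hac (Fin.mk.inj_iff.1 h))
    (fun h => hbc (Fin.mk.inj_iff.1 h))

/-- commutation of disjoint swaps of `Fin N` given by natural numbers -/
theorem sr_comm_nat {G : Type*} [Group G] {N : ℕ} (φ : Perm (Fin N) →* G)
    (a b c d : ℕ) (ha : a < N) (hb : b < N) (hc : c < N) (hd : d < N)
    (hab : a ≠ b) (hcd : c ≠ d) (hac : a ≠ c) (had : a ≠ d) (hbc : b ≠ c) (hbd : b ≠ d) :
    φ (swap ⟨a, ha⟩ ⟨b, hb⟩) * φ (swap ⟨c, hc⟩ ⟨d, hd⟩) =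
      φ (swap ⟨c, hc⟩ ⟨d, hd⟩) * φ (swap ⟨a, ha⟩ ⟨b, hb⟩) :=
  sr_hom_swap_comm φ (fun h => hab (Fin.mk.inj_iff.1 h)) (fun h => hcd (Fin.mk.inj_iff.1 h))
    (fun h => hac (Fin.mk.inj_iff.1 h)) (fun h => had (Fin.mk.inj_iff.1 h))
    (fun h => hbc (Fin.mk.inj_iff.1 h)) (fun h => hbd (Fin.mk.inj_iff.1 h))

/-- A homomorphism from `Sym(N+1)` takes values in a subgroup as soon as the adjacent
transpositions do. -/
theorem sr_mem_of_adj {G : Type*} [Group G] {N : ℕ} (φ : Perm (Fin (N + 1)) →* G)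
    (H : Subgroup G) (h : ∀ (i : ℕ) (hi : i + 1 < N + 1), φ (swap ⟨i, by omega⟩ ⟨i + 1, hi⟩) ∈ H)
    (σ : Perm (Fin (N + 1))) : φ σ ∈ H := by
  have hle : φ.range ≤ H := by
    rw [MonoidHom.range_eq_map,
      ← Subgroup.closure_eq_top_of_mclosure_eq_top (Perm.mclosure_swap_castSucc_succ N),
      MonoidHom.map_closure, Subgroup.closure_le]
    rintro _ ⟨_, ⟨i, rfl⟩, rfl⟩
    obtain ⟨i, hi⟩ := i
    exact h i (by omega)
  exact hle ⟨σ, rfl⟩

theorem sr_assembly (n : ℕ) (hn : 1 ≤ n) {G : Type*} [Group G] (K J : Subgroup G)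
    (eK : Perm (Fin (n + 3)) ≃* K) (eJ : Perm (Fin (n + 3)) ≃* J)
    (hKJ : ∀ (k : ℕ) (hk : k + 3 < n + 3),
      ((eK (swap ⟨k + 2, by omega⟩ ⟨k + 3, hk⟩) : K) : G) =
        ((eJ (swap ⟨k, by omega⟩ ⟨k + 1, by omega⟩) : J) : G))
    (hy : ∀ g ∈ J, Commute ((eK (swap ⟨0, by omega⟩ ⟨1, by omega⟩) : K) : G) g)
    (hx : ∀ g ∈ K, Commute ((eJ (swap ⟨n + 1, by omega⟩ ⟨n + 2, by omega⟩) : J) : G) g)
    (hcore : Commute ((eK (swap ⟨1, by omega⟩ ⟨2, by omega⟩) : K) : G)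
      ((eJ (swap ⟨n, by omega⟩ ⟨n + 1, by omega⟩) : J) : G)) :
    Nonempty (↥(K ⊔ J) ≃* Perm (Fin (n + 3 + 2))) := by
  classical
  set φK : Perm (Fin (n + 3)) →* G := K.subtype.comp eK.toMonoidHom with hφK
  set φJ : Perm (Fin (n + 3)) →* G := J.subtype.comp eJ.toMonoidHom with hφJ
  have hφKmem : ∀ σ, φK σ ∈ K := fun σ => (eK σ).2
  have hφJmem : ∀ σ, φJ σ ∈ J := fun σ => (eJ σ).2
  have hKJ' : ∀ (k : ℕ) (hk : k + 3 < n + 3),
      φK (swap ⟨k + 2, by omega⟩ ⟨k + 3, hk⟩) = φJ (swap ⟨k, by omega⟩ ⟨k + 1, by omega⟩) := hKJ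
  have hy' : ∀ g ∈ J, Commute (φK (swap ⟨0, by omega⟩ ⟨1, by omega⟩)) g := hy
  have hx' : ∀ g ∈ K, Commute (φJ (swap ⟨n + 1, by omega⟩ ⟨n + 2, by omega⟩)) g := hx
  have hcore' : Commute (φK (swap ⟨1, by omega⟩ ⟨2, by omega⟩))
      (φJ (swap ⟨n, by omega⟩ ⟨n + 1, by omega⟩)) := hcore
  -- the Coxeter generators
  let f : Fin (n + 4) → G := fun i =>
    if h : (i : ℕ) + 1 < n + 3 then φK (swap ⟨i, by omega⟩ ⟨i + 1, h⟩)
    else φJ (swap ⟨i - 2, by omega⟩ ⟨i - 1, by omega⟩)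
  have fK : ∀ (i : Fin (n + 4)) (a : ℕ) (hia : (i : ℕ) = a) (h : a + 1 < n + 3),
      f i = φK (swap ⟨a, by omega⟩ ⟨a + 1, h⟩) := by
    intro i a hia h
    subst hia
    simp only [f, dif_pos h]
  have fJ : ∀ (i : Fin (n + 4)) (k : ℕ) (hk : (i : ℕ) = k + 2),
      f i = φJ (swap ⟨k, by omega⟩ ⟨k + 1, by omega⟩) := by
    intro i k hk
    by_cases h : (i : ℕ) + 1 < n + 3
    · rw [fK i (k + 2) hk (by omega)]
      exact hKJ' k (by omega)
    · simp only [f, dif_neg h]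
      congr 2 <;> (apply Fin.ext; simp only; omega)
  have h1 : ∀ i, f i * f i = 1 := by
    intro i
    by_cases h : (i : ℕ) + 1 < n + 3
    · rw [fK i i rfl h]; exact sr_hom_swap_sq φK _ _
    · rw [fJ i ((i : ℕ) - 2) (by omega)]; exact sr_hom_swap_sq φJ _ _
  have h3 : ∀ i j : Fin (n + 4), (i : ℕ) + 1 = j → (f i * f j) ^ 3 = 1 := by
    intro i j hij
    by_cases h : (j : ℕ) + 1 < n + 3
    · rw [fK i i rfl (by omega), fK j j rfl h]
      exact sr_braid_nat φK _ _ _ _ _ _ _ _ hij (by omega) (by omega) (by omega)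
    · rw [fJ i ((i : ℕ) - 2) (by omega), fJ j ((j : ℕ) - 2) (by omega)]
      exact sr_braid_nat φJ _ _ _ _ _ _ _ _ (by omega) (by omega) (by omega) (by omega)
  have h2 : ∀ i j : Fin (n + 4), (i : ℕ) + 2 ≤ j → f i * f j = f j * f i := by
    intro i j hij
    by_cases h : (j : ℕ) + 1 < n + 3
    · rw [fK i i rfl (by omega), fK j j rfl h]
      exact sr_comm_nat φK _ _ _ _ _ _ _ _ (by omega) (by omega) (by omega) (by omega)
        (by omega) (by omega)
    · by_cases h2i : 2 ≤ (i : ℕ)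
      · rw [fJ i ((i : ℕ) - 2) (by omega), fJ j ((j : ℕ) - 2) (by omega)]
        exact sr_comm_nat φJ _ _ _ _ _ _ _ _ (by omega) (by omega) (by omega) (by omega)
          (by omega) (by omega)
      · have hj := j.2
        rcases Nat.lt_or_ge (i : ℕ) 1 with hi0 | hi1
        · -- `i = 0`
          rw [fK i 0 (by omega) (by omega), fJ j ((j : ℕ) - 2) (by omega)]
          exact (hy' _ (hφJmem _)).eq
        · have hi1' : (i : ℕ) = 1 := by omega
          rcases Nat.lt_or_ge (j : ℕ) (n + 3) with hj0 | hj1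
          · -- `j = n + 2`
            rw [fK i 1 hi1' (by omega), fJ j n (by omega)]
            exact hcore'.eq
          · -- `j = n + 3`
            rw [fK i 1 hi1' (by omega), fJ j (n + 1) (by omega)]
            exact ((hx' _ (hφKmem _)).symm).eq
  obtain ⟨Φ, hΦ⟩ := sr_exists_hom_of_relations (n + 4) f h1 h3 h2
  have hΦ' : ∀ (i : ℕ) (hi : i + 1 < n + 4 + 1),
      Φ (swap ⟨i, by omega⟩ ⟨i + 1, hi⟩) = f ⟨i, by omega⟩ := by
    intro i hi
    exact hΦ ⟨i, by omega⟩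
  have hfmem : ∀ i, f i ∈ K ⊔ J := by
    intro i
    by_cases h : (i : ℕ) + 1 < n + 3
    · rw [fK i i rfl h]; exact (le_sup_left : K ≤ K ⊔ J) (hφKmem _)
    · rw [fJ i ((i : ℕ) - 2) (by omega)]; exact (le_sup_right : J ≤ K ⊔ J) (hφJmem _)
  have hrange : Φ.range = K ⊔ J := by
    apply le_antisymm
    · rintro _ ⟨σ, rfl⟩
      refine sr_mem_of_adj Φ (K ⊔ J) ?_ σ
      intro i hi
      rw [hΦ' i hi]
      exact hfmem _
    · apply sup_le
      · intro g hg
        have h4 : ∀ σ, φK σ ∈ Φ.range := by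
          intro σ
          refine sr_mem_of_adj (N := n + 2) φK Φ.range ?_ σ
          intro i hi
          refine ⟨swap ⟨i, by omega⟩ ⟨i + 1, by omega⟩, ?_⟩
          rw [hΦ' i (by omega), fK ⟨i, by omega⟩ i rfl (by omega)]
        have h5 := h4 (eK.symm ⟨g, hg⟩)
        simpa [φK] using h5
      · intro g hg
        have h4 : ∀ σ, φJ σ ∈ Φ.range := by
          intro σ
          refine sr_mem_of_adj (N := n + 2) φJ Φ.range ?_ σ
          intro i hi
          refine ⟨swap ⟨i + 2, by omega⟩ ⟨i + 2 + 1, by omega⟩, ?_⟩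
          rw [hΦ' (i + 2) (by omega), fJ ⟨i + 2, by omega⟩ i rfl]
        have h5 := h4 (eJ.symm ⟨g, hg⟩)
        simpa [φJ] using h5
  have hφKinj : Function.Injective φK := by
    intro σ τ hστ
    apply eK.injective
    exact Subtype.ext hστ
  have hinj : Function.Injective Φ := by
    refine sr_injective_of_ne_one (by omega) Φ
      ⟨swap ⟨0, by omega⟩ ⟨0 + 1, by omega⟩ * swap ⟨1, by omega⟩ ⟨1 + 1, by omega⟩, ?_, ?_⟩
    · rw [Perm.mem_alternatingGroup, map_mul, Perm.sign_swap (by simp),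
        Perm.sign_swap (by simp)]
      rfl
    · rw [map_mul, hΦ' 0 (by omega), hΦ' 1 (by omega), fK ⟨0, by omega⟩ 0 rfl (by omega),
        fK ⟨1, by omega⟩ 1 rfl (by omega), ← map_mul]
      intro h6
      have h7 := hφKinj (h6.trans (map_one φK).symm)
      have h8 := congrArg (fun σ : Perm (Fin (n + 3)) => ((σ ⟨2, by omega⟩ : Fin (n + 3)) : ℕ)) h7
      simp [Perm.mul_apply] at h8
  exact ⟨((MonoidHom.ofInjective hinj).trans (MulEquiv.subgroupCongr hrange)).symm⟩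

end Cfsg.Agent.SymRec
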